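import Mathlib.Topology.Compactification.StoneCech
import Mathlib.Topology.ExtremallyDisconnected

/-! projective covers of compact Hausdorff spaces -/

universe u

namespace Groth.Agent.ProfLib

/-- a type with the discrete topology -/
def Disc (X : Type u) : Type u := X

instance (X : Type u) : TopologicalSpace (Disc X) := ⊥
instance (X : Type u) : DiscreteTopology (Disc X) := ⟨rfl⟩

theorem exists_extremallyDisconnected_cover (X : Type u) [TopologicalSpace X] [CompactSpace X] [T2Space X] :
    ∃ (T : Type u) (_ : TopologicalSpace T) (_ : CompactSpace T) (_ : T2Space T) (_ : TotallyDisconnectedSpace T)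
      (_ : ExtremallyDisconnected T) (g : C(T, X)), Function.Surjective g := by
  haveI : ExtremallyDisconnected (StoneCech (Disc X)) :=
    CompactT2.Projective.extremallyDisconnected StoneCech.projective
  let f : Disc X → X := fun x => x
  have hf : @Continuous (Disc X) X _ _ f := continuous_of_discreteTopology
  exact ⟨StoneCech (Disc X), inferInstance, inferInstance, inferInstance, inferInstance, inferInstance,
    ⟨stoneCechExtend hf, continuous_stoneCechExtend hf⟩,
    fun x => ⟨stoneCechUnit (show Disc X from x), congrFun (stoneCechExtend_extends hf) x⟩⟩

end Groth.Agent.ProfLib
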