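import Groth.Agent.WLocalLib.FibreProd
import Groth.Agent.IndZarLib.Closure
import Groth.Agent.S0703

/-!
# Realizing profinite spaces over the connected components of a spectrum
-/

universe u

namespace Groth.Agent.ProfLib

noncomputable section

variable (A : Type u) [CommRing A]

/-- the connected components of the spectrum -/
abbrev Pi0 : Type u := _root_.ConnectedComponents (PrimeSpectrum A)

variable {A}

/-- the ideal of a connected component -/
def compIdeal (c : Pi0 A) : Ideal A where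
  carrier := {x | ∃ h : A, IsIdempotentElem h ∧ _root_.ConnectedComponents.mk ⁻¹' {c} ⊆ PrimeSpectrum.basicOpen h ∧ x * h = 0}
  zero_mem' := ⟨1, IsIdempotentElem.one, by simp, zero_mul 1⟩
  add_mem' := by
    rintro x y ⟨h, hh, hs, hx⟩ ⟨h', hh', hs', hy⟩
    refine ⟨h * h', hh.mul hh', by rw [PrimeSpectrum.basicOpen_mul]; exact Set.subset_inter hs hs', ?_⟩
    rw [add_mul, ← mul_assoc, hx, zero_mul, zero_add, mul_comm h, ← mul_assoc, hy, zero_mul]
  smul_mem' := fun r x ⟨h, hh, hs, hx⟩ => ⟨h, hh, hs, by rw [smul_eq_mul, mul_assoc, hx, mul_zero]⟩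

theorem exists_idem_of_clopen {V : Set (Pi0 A)} (hV : IsClopen V) :
    ∃ h : A, IsIdempotentElem h ∧ _root_.ConnectedComponents.mk ⁻¹' V = PrimeSpectrum.basicOpen h :=
  PrimeSpectrum.exists_idempotent_basicOpen_eq_of_isClopen (hV.preimage ConnectedComponents.continuous_coe)

theorem exists_nhd_of_idem {h : A} (hh : IsIdempotentElem h) :
    IsClopen {c : Pi0 A | _root_.ConnectedComponents.mk ⁻¹' {c} ⊆ PrimeSpectrum.basicOpen h} := by
  have hD : IsClopen (PrimeSpectrum.basicOpen h : Set (PrimeSpectrum A)) := PrimeSpectrum.isClopen_iff.2 ⟨h, hh, rfl⟩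
  have e : (_root_.ConnectedComponents.mk : PrimeSpectrum A → Pi0 A) ⁻¹'
      {c : Pi0 A | _root_.ConnectedComponents.mk ⁻¹' {c} ⊆ PrimeSpectrum.basicOpen h} = PrimeSpectrum.basicOpen h := by
    ext x
    refine ⟨fun hx => hx rfl, fun hx y hy => ?_⟩
    exact hD.connectedComponent_subset hx (ConnectedComponents.coe_eq_coe'.1 hy)
  refine ⟨?_, ?_⟩
  · rw [← ConnectedComponents.isQuotientMap_coe.isClosed_preimage, e]; exact hD.1
  · rw [← ConnectedComponents.isQuotientMap_coe.isOpen_preimage, e]; exact hD.2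

theorem compIdeal_le_iff {p : PrimeSpectrum A} {c : Pi0 A} :
    compIdeal c ≤ p.asIdeal ↔ _root_.ConnectedComponents.mk p = c := by
  haveI := WLocalLib.t2Space_components (PrimeSpectrum A)
  refine ⟨fun hle => ?_, fun hp x ⟨h, hh, hs, hx⟩ => (p.2.mem_or_mem (hx ▸ p.asIdeal.zero_mem)).resolve_right (hs hp)⟩
  by_contra hne
  obtain ⟨V, hV, hcV, hVp⟩ := compact_exists_isClopen_in_isOpen (X := Pi0 A)
    (isOpen_compl_singleton (x := _root_.ConnectedComponents.mk p)) (show c ∈ ({_root_.ConnectedComponents.mk p} : Set (Pi0 A))ᶜ from fun h => hne h.symm)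
  obtain ⟨h, hh, e⟩ := exists_idem_of_clopen hV
  have hmem : 1 - h ∈ compIdeal c := ⟨h, hh, fun x hx => e.le (show _root_.ConnectedComponents.mk x ∈ V from hx ▸ hcV),
    by rw [sub_mul, one_mul, hh.eq, sub_self]⟩
  have hhp : h ∈ p.asIdeal := by
    by_contra hn
    exact hVp (show _root_.ConnectedComponents.mk p ∈ V from e.ge hn) rfl
  exact p.2.one_notMem (by simpa using p.asIdeal.add_mem (hle hmem) hhp)

variable {T : Type u} [TopologicalSpace T] (g : C(T, Pi0 A))

/-- the quotient at a point -/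
abbrev Q (t : T) : Type u := A ⧸ compIdeal (g t)

/-- the realizing algebra -/
def realize : Subalgebra A (∀ t, Q g t) where
  carrier := {s | ∀ t, ∃ V : Set T, IsClopen V ∧ t ∈ V ∧ ∃ a : A, ∀ t' ∈ V, s t' = Ideal.Quotient.mk _ a}
  mul_mem' := fun {s s'} hs hs' t => by
    obtain ⟨V, hV, ht, a, ha⟩ := hs t
    obtain ⟨W, hW, ht', b, hb⟩ := hs' t
    exact ⟨V ∩ W, hV.inter hW, ⟨ht, ht'⟩, a * b, fun t' h => by rw [Pi.mul_apply, ha t' h.1, hb t' h.2, map_mul]⟩
  add_mem' := fun {s s'} hs hs' t => by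
    obtain ⟨V, hV, ht, a, ha⟩ := hs t
    obtain ⟨W, hW, ht', b, hb⟩ := hs' t
    exact ⟨V ∩ W, hV.inter hW, ⟨ht, ht'⟩, a + b, fun t' h => by rw [Pi.add_apply, ha t' h.1, hb t' h.2, map_add]⟩
  algebraMap_mem' := fun a t => ⟨Set.univ, isClopen_univ, trivial, a, fun _ _ => rfl⟩

/-- evaluation -/
def ev (t : T) : realize g →ₐ[A] Q g t :=
  (Pi.evalAlgHom A (fun t => Q g t) t).comp (realize g).val

theorem ext_ev {s s' : realize g} (h : ∀ t, ev g t s = ev g t s') : s = s' := Subtype.ext (funext h)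

theorem ev_surjective (t : T) : Function.Surjective (ev g t) := fun z => by
  obtain ⟨a, rfl⟩ := Ideal.Quotient.mk_surjective z
  exact ⟨algebraMap A _ a, (ev g t).commutes a⟩

open Classical in
/-- the indicator of a clopen set -/
def ind {V : Set T} (hV : IsClopen V) : realize g :=
  ⟨fun t => if t ∈ V then 1 else 0, fun t => by
    by_cases ht : t ∈ V
    · exact ⟨V, hV, ht, 1, fun t' h => by simp [h]⟩
    · exact ⟨Vᶜ, hV.compl, ht, 0, fun t' (h : t' ∉ V) => by simp [h]⟩⟩

theorem ev_ind_of_mem {V : Set T} (hV : IsClopen V) {t : T} (h : t ∈ V) : ev g t (ind g hV) = 1 := if_pos h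

theorem ev_ind_of_notMem {V : Set T} (hV : IsClopen V) {t : T} (h : t ∉ V) : ev g t (ind g hV) = 0 := if_neg h

theorem exists_nhd_zero {s : realize g} {t : T} (hs : ev g t s = 0) :
    ∃ V, IsClopen V ∧ t ∈ V ∧ ∀ t' ∈ V, ev g t' s = 0 := by
  obtain ⟨V, hV, ht, a, ha⟩ := s.2 t
  obtain ⟨h, hh, hsub, hah⟩ := Ideal.Quotient.eq_zero_iff_mem.1 ((ha t ht).symm.trans hs)
  refine ⟨V ∩ g ⁻¹' _, hV.inter ((exists_nhd_of_idem hh).preimage g.continuous), ⟨ht, hsub⟩, fun t' ht' => ?_⟩
  exact (ha t' ht'.1).trans (Ideal.Quotient.eq_zero_iff_mem.2 ⟨h, hh, ht'.2, hah⟩)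

variable [CompactSpace T] [T2Space T] [TotallyDisconnectedSpace T]

theorem exists_ker_ev_le (P : PrimeSpectrum (realize g)) : ∃ t, RingHom.ker (ev g t) ≤ P.asIdeal := by
  classical
  by_contra hne
  push Not at hne
  have h1 : ∀ t, ∃ (V : Set T) (hV : IsClopen V), t ∈ V ∧ ind g hV ∈ P.asIdeal := fun t => by
    obtain ⟨s, hs, hsP⟩ := SetLike.not_le_iff_exists.1 (hne t)
    obtain ⟨V, hV, ht, hz⟩ := exists_nhd_zero g hs
    have : ind g hV * s = 0 := ext_ev g fun t' => by
      rw [map_mul, map_zero]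
      by_cases h : t' ∈ V
      · rw [hz t' h, mul_zero]
      · rw [ev_ind_of_notMem g hV h, zero_mul]
    exact ⟨V, hV, ht, (P.2.mem_or_mem (this ▸ P.asIdeal.zero_mem)).resolve_right hsP⟩
  choose V hV htV hVP using h1
  obtain ⟨F, hF⟩ := isCompact_univ.elim_finite_subcover V (fun t => (hV t).2) fun t _ => Set.mem_iUnion.2 ⟨t, htV t⟩
  have : ∏ t ∈ F, (1 - ind g (hV t)) = (0 : realize g) := ext_ev g fun t' => by
    rw [map_prod, map_zero]
    obtain ⟨t, ht, ht'⟩ := Set.mem_iUnion₂.1 (hF (Set.mem_univ t'))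
    exact Finset.prod_eq_zero ht (by rw [map_sub, map_one, ev_ind_of_mem g (hV t) ht', sub_self])
  obtain ⟨t, -, ht⟩ := P.2.prod_mem_iff.1 (this ▸ P.asIdeal.zero_mem)
  exact P.2.one_notMem (by simpa using P.asIdeal.add_mem ht (hVP t))

theorem ker_ev_le_unique {P : PrimeSpectrum (realize g)} {t t' : T} (h : RingHom.ker (ev g t) ≤ P.asIdeal)
    (h' : RingHom.ker (ev g t') ≤ P.asIdeal) : t = t' := by
  by_contra hne
  obtain ⟨V, hV, htV, hVt'⟩ := compact_exists_isClopen_in_isOpen (X := T)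
    (isOpen_compl_singleton (x := t')) (show t ∈ ({t'} : Set T)ᶜ from hne)
  have h1 : 1 - ind g hV ∈ P.asIdeal := h (by rw [RingHom.mem_ker, map_sub, map_one, ev_ind_of_mem g hV htV, sub_self])
  have h2 : ind g hV ∈ P.asIdeal := h' (ev_ind_of_notMem g hV fun hh => hVt' hh rfl)
  exact P.2.one_notMem (by simpa using P.asIdeal.add_mem h1 h2)

/-- the point of `T` under a prime -/
def pt (P : PrimeSpectrum (realize g)) : T := (exists_ker_ev_le g P).choose

theorem ker_pt (P : PrimeSpectrum (realize g)) : RingHom.ker (ev g (pt g P)) ≤ P.asIdeal :=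
  (exists_ker_ev_le g P).choose_spec

theorem ind_mem_iff (P : PrimeSpectrum (realize g)) {V : Set T} (hV : IsClopen V) :
    ind g hV ∉ P.asIdeal ↔ pt g P ∈ V := by
  refine ⟨fun h => by_contra fun hn => h (ker_pt g P (ev_ind_of_notMem g hV hn)), fun h hP => ?_⟩
  have h1 : 1 - ind g hV ∈ P.asIdeal :=
    ker_pt g P (by rw [RingHom.mem_ker, map_sub, map_one, ev_ind_of_mem g hV h, sub_self])
  exact P.2.one_notMem (by simpa using P.asIdeal.add_mem h1 hP)

theorem continuous_pt : Continuous (pt g) := by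
  refine (isTopologicalBasis_isClopen (X := T)).continuous_iff.2 fun V hV => ?_
  rw [show pt g ⁻¹' V = PrimeSpectrum.basicOpen (ind g hV) from Set.ext fun P => (ind_mem_iff g P hV).symm]
  exact (PrimeSpectrum.basicOpen _).isOpen

theorem mem_iff_of_eq {P : PrimeSpectrum (realize g)} {s : realize g} {a : A}
    (h : ev g (pt g P) s = Ideal.Quotient.mk _ a) :
    s ∈ P.asIdeal ↔ a ∈ (PrimeSpectrum.comap (algebraMap A (realize g)) P).asIdeal := by
  have h1 : s - algebraMap A _ a ∈ P.asIdeal := ker_pt g P (by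
    rw [RingHom.mem_ker, map_sub, h, AlgHom.commutes]; exact sub_self _)
  exact ⟨fun hs => show algebraMap A _ a ∈ P.asIdeal by simpa using P.asIdeal.sub_mem hs h1,
    fun ha => by simpa using P.asIdeal.add_mem h1 (show algebraMap A _ a ∈ P.asIdeal from ha)⟩

theorem mk_comap (P : PrimeSpectrum (realize g)) :
    _root_.ConnectedComponents.mk (PrimeSpectrum.comap (algebraMap A (realize g)) P) = g (pt g P) := by
  refine compIdeal_le_iff.1 fun x hx => (mem_iff_of_eq g (s := 0) (a := x) ?_).1 P.asIdeal.zero_mem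
  rw [map_zero]
  exact (Ideal.Quotient.eq_zero_iff_mem.2 hx).symm

/-- the comparison with the fibre product -/
def toProd (P : PrimeSpectrum (realize g)) : PrimeSpectrum A × T :=
  (PrimeSpectrum.comap (algebraMap A (realize g)) P, pt g P)

theorem toProd_injective : Function.Injective (toProd g) := fun P P' h => by
  obtain ⟨h1, h2⟩ := Prod.mk.inj h
  refine PrimeSpectrum.ext (Ideal.ext fun s => ?_)
  obtain ⟨a, ha⟩ := Ideal.Quotient.mk_surjective (ev g (pt g P) s)
  rw [mem_iff_of_eq g ha.symm, h1, ← mem_iff_of_eq g (P := P') (a := a) (s := s) (by rw [← h2]; exact ha.symm)]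

theorem range_toProd : Set.range (toProd g) = {p | _root_.ConnectedComponents.mk p.1 = g p.2} := by
  refine Set.Subset.antisymm ?_ ?_
  · rintro _ ⟨P, rfl⟩
    exact mk_comap g P
  · rintro ⟨p, t⟩ (h : _root_.ConnectedComponents.mk p = g t)
    let φ : realize g →+* A ⧸ p.asIdeal :=
      (Ideal.Quotient.factor (compIdeal_le_iff.2 h)).comp (ev g t).toRingHom
    haveI : (RingHom.ker φ).IsPrime := RingHom.ker_isPrime φ
    refine ⟨⟨RingHom.ker φ, inferInstance⟩, ?_⟩
    have ht : pt g ⟨RingHom.ker φ, inferInstance⟩ = t :=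
      ker_ev_le_unique g (ker_pt g _) fun s hs => by
        show φ s = 0
        exact (congrArg (Ideal.Quotient.factor (compIdeal_le_iff.2 h)) (RingHom.mem_ker.1 hs)).trans (map_zero _)
    refine Prod.ext (PrimeSpectrum.ext (Ideal.ext fun x => ?_)) ht
    show φ (algebraMap A _ x) = 0 ↔ x ∈ p.asIdeal
    rw [show φ (algebraMap A _ x) = Ideal.Quotient.mk p.asIdeal x from
      congrArg (Ideal.Quotient.factor (compIdeal_le_iff.2 h)) ((ev g t).commutes x), Ideal.Quotient.eq_zero_iff_mem]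

theorem isEmbedding_toProd : Topology.IsEmbedding (toProd g) := by
  have hc : Continuous (toProd g) := (PrimeSpectrum.continuous_comap _).prodMk (continuous_pt g)
  refine ⟨⟨le_antisymm (continuous_iff_le_induced.1 hc) ?_⟩, toProd_injective g⟩
  rw [(PrimeSpectrum.isTopologicalBasis_basic_opens (R := realize g)).eq_generateFrom]
  refine le_generateFrom ?_
  rintro _ ⟨s, rfl⟩
  choose V hV htV a ha using s.2
  rw [isOpen_induced_iff]
  refine ⟨⋃ t, (PrimeSpectrum.basicOpen (a t) : Set (PrimeSpectrum A)) ×ˢ V t,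
    isOpen_iUnion fun t => (PrimeSpectrum.basicOpen (a t)).isOpen.prod (hV t).2, ?_⟩
  ext P
  simp only [Set.mem_preimage, Set.mem_iUnion, Set.mem_prod, toProd]
  refine ⟨fun ⟨t, h1, h2⟩ hs => h1 ((mem_iff_of_eq g (ha t _ h2)).1 hs),
    fun hs => ⟨pt g P, fun h => hs ((mem_iff_of_eq g (ha _ _ (htV _))).2 h), htV _⟩⟩

/-- the spectrum is the fibre product -/
def homeoFibre :
    PrimeSpectrum (realize g) ≃ₜ {p : PrimeSpectrum A × T // _root_.ConnectedComponents.mk p.1 = g p.2} :=
  (isEmbedding_toProd g).toHomeomorph.trans (Homeomorph.setCongr (range_toProd g))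

theorem exists_components_homeo :
    ∃ e : _root_.ConnectedComponents (PrimeSpectrum (realize g)) ≃ₜ T,
      ∀ P : PrimeSpectrum (realize g), e (_root_.ConnectedComponents.mk P) = pt g P := by
  obtain ⟨-, e, he⟩ := Groth.Agent.S0703.result (PrimeSpectrum A) T g
  have hco : Topology.IsCoinducing (homeoFibre g) := (homeoFibre g).isQuotientMap.isCoinducing
  have hfib : ∀ y, IsConnected (homeoFibre g ⁻¹' {y}) := fun y => by
    rw [← (homeoFibre g).image_symm, Set.image_singleton]
    exact isConnected_singleton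
  refine ⟨(hco.connectedComponentsHomeomorph hfib).trans e, fun P => ?_⟩
  rw [Homeomorph.trans_apply, Topology.IsCoinducing.connectedComponentsHomeomorph_mk, he]
  rfl

theorem exists_pi_factor (P : Type u) [CommRing P] [Algebra A P] [Algebra.FinitePresentation A P]
    (φ : P →ₐ[A] realize g) :
    ∃ (ι : Type u) (_ : Finite ι) (h : ι → A) (α : P →ₐ[A] ∀ i, Localization.Away (h i))
      (β : (∀ i, Localization.Away (h i)) →ₐ[A] realize g), β.comp α = φ := by
  classical
  -- near each point the map is given by a map into `A_h`, `h` an idempotent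
  have local' : ∀ t : T, ∃ (V : Set T) (h : A) (ψ : P →ₐ[A] Localization.Away h), IsClopen V ∧ t ∈ V ∧
      (∀ t' ∈ V, algebraMap A (Q g t') h = 1) ∧ ∀ t' ∈ V, ∃ hu : IsUnit (algebraMap A (Q g t') h),
        (IsLocalization.Away.liftAlgHom (A := A) h (f := Algebra.ofId A (Q g t')) hu).comp ψ = (ev g t').comp φ := by
    intro t
    obtain ⟨n, π, hπ, hker⟩ := Algebra.FinitePresentation.out (R := A) (A := P)
    obtain ⟨rels, hrels⟩ := hker
    choose V hV htV a ha using fun i : Fin n => (φ (π (MvPolynomial.X i))).2 t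
    let χ : MvPolynomial (Fin n) A →ₐ[A] A := MvPolynomial.aeval a
    have hW : IsClopen (⋂ i, V i) := ⟨isClosed_iInter fun i => (hV i).1, isOpen_iInter_of_finite fun i => (hV i).2⟩
    have hχ : ∀ t' ∈ ⋂ i, V i, ∀ r, ev g t' (φ (π r)) = Ideal.Quotient.mk _ (χ r) := fun t' ht' r =>
      AlgHom.congr_fun (MvPolynomial.algHom_ext (f := ((ev g t').comp φ).comp π)
        (g := (Ideal.Quotient.mkₐ A _).comp χ) fun i => by
        simp only [AlgHom.comp_apply, χ, MvPolynomial.aeval_X]
        exact ha i t' (Set.mem_iInter.1 ht' i)) r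
    have htW : t ∈ ⋂ i, V i := Set.mem_iInter.2 htV
    have key : ∀ S : Finset (MvPolynomial (Fin n) A), (∀ r ∈ S, π r = 0) →
        ∃ h : A, IsIdempotentElem h ∧ _root_.ConnectedComponents.mk ⁻¹' {g t} ⊆ PrimeSpectrum.basicOpen h ∧
          ∀ r ∈ S, χ r * h = 0 := by
      intro S hS
      induction S using Finset.induction_on with
      | empty => exact ⟨1, IsIdempotentElem.one, by simp, by simp⟩
      | insert r S _ ih =>
        obtain ⟨h, hh, hsub, hS'⟩ := ih fun r' hr' => hS r' (Finset.mem_insert_of_mem hr')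
        have h0 : χ r ∈ compIdeal (g t) := Ideal.Quotient.eq_zero_iff_mem.1 (by
          rw [← hχ t htW r, hS r (Finset.mem_insert_self _ _), map_zero, map_zero])
        obtain ⟨h', hh', hsub', hr'⟩ := h0
        refine ⟨h * h', hh.mul hh', by rw [PrimeSpectrum.basicOpen_mul]; exact Set.subset_inter hsub hsub', fun x hx => ?_⟩
        rcases Finset.mem_insert.1 hx with rfl | hx
        · rw [mul_comm h, ← mul_assoc, hr', zero_mul]
        · rw [← mul_assoc, hS' x hx, zero_mul]
    obtain ⟨h, hh, hsub, hS⟩ := key rels fun r hr => RingHom.mem_ker.1 (hrels.le (Submodule.subset_span hr))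
    let χh : MvPolynomial (Fin n) A →ₐ[A] Localization.Away h := (Algebra.ofId A _).comp χ
    have hle : RingHom.ker π ≤ RingHom.ker χh := hrels.ge.trans (Submodule.span_le.2 fun r hr => by
      show algebraMap A (Localization.Away h) (χ r) = 0
      exact (IsLocalization.map_eq_zero_iff (Submonoid.powers h) _ _).2 ⟨⟨h, 1, pow_one h⟩, by rw [mul_comm]; exact hS r hr⟩)
    let ψ := AlgHom.liftOfSurjective π hπ χh hle
    have h1' : ∀ t', _root_.ConnectedComponents.mk ⁻¹' {g t'} ⊆ (PrimeSpectrum.basicOpen h : Set (PrimeSpectrum A)) →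
        algebraMap A (Q g t') h = 1 := fun t' ht' => by
      rw [Ideal.Quotient.algebraMap_eq, ← map_one (Ideal.Quotient.mk _), Ideal.Quotient.eq]
      exact ⟨h, hh, ht', by rw [sub_mul, one_mul, hh.eq, sub_self]⟩
    refine ⟨(⋂ i, V i) ∩ g ⁻¹' _, h, ψ, hW.inter ((exists_nhd_of_idem hh).preimage g.continuous), ⟨htW, hsub⟩,
      fun t' ht' => h1' t' ht'.2, fun t' ht' => ?_⟩
    refine ⟨(h1' t' ht'.2).symm ▸ isUnit_one, AlgHom.ext fun x => ?_⟩
    obtain ⟨r, rfl⟩ := hπ x
    rw [AlgHom.comp_apply, AlgHom.comp_apply, show ψ (π r) = χh r from AlgHom.liftOfSurjective_apply π hπ _ hle r]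
    refine (AlgHom.commutes _ _).trans ?_
    exact (hχ t' ht'.1 r).symm
  choose V h ψ hV htV hone hq using local'
  obtain ⟨F, hF⟩ := isCompact_univ.elim_finite_subcover V (fun t => (hV t).2) fun t _ => Set.mem_iUnion.2 ⟨t, htV t⟩
  let e := F.equivFin
  let pc : Fin F.card → T := fun i => (e.symm i).1
  have hcov : ∀ t', ∃ i, t' ∈ V (pc i) := fun t' => by
    obtain ⟨t, ht, ht'⟩ := Set.mem_iUnion₂.1 (hF (Set.mem_univ t'))
    exact ⟨e ⟨t, ht⟩, by simpa [pc] using ht'⟩
  let idx : T → Fin F.card := fun t' => Fin.find (fun i => t' ∈ V (pc i)) (hcov t')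
  have hidx : ∀ t', t' ∈ V (pc (idx t')) := fun t' => Fin.find_spec (p := fun i => t' ∈ V (pc i)) (hcov t')
  let N := ∀ i : ULift.{u} (Fin F.card), Localization.Away (h (pc i.down))
  let β0 : N →ₐ[A] (∀ t', Q g t') := AlgHom.pi fun t' =>
    (IsLocalization.Away.liftAlgHom (A := A) (h (pc (idx t'))) (f := Algebra.ofId A (Q g t')) (hq _ t' (hidx t')).1).comp
      (Pi.evalAlgHom A (fun i : ULift.{u} (Fin F.card) => Localization.Away (h (pc i.down))) ⟨idx t'⟩)
  have hmem : ∀ z, β0 z ∈ realize g := fun z t => by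
    -- the chosen index is locally constant
    have hopen : ∀ i, IsClopen {t' | idx t' = i} := fun i => by
      have e : {t' | idx t' = i} = V (pc i) ∩ ⋂ j ∈ Finset.univ.filter (fun j => j < i), (V (pc j))ᶜ := by
        ext t'
        simp only [Set.mem_setOf_eq, Set.mem_inter_iff, Set.mem_iInter, Finset.mem_filter, Finset.mem_univ, true_and,
          Set.mem_compl_iff]
        refine ⟨?_, fun ⟨h1, h2⟩ => le_antisymm (Fin.find_le_of_pos (p := fun j => t' ∈ V (pc j)) (hcov t') h1)
          (not_lt.1 fun hlt => h2 _ hlt (hidx t'))⟩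
        rintro rfl
        exact ⟨hidx t', fun j hj hm => not_le.2 hj (Fin.find_le_of_pos (p := fun j => t' ∈ V (pc j)) (hcov t') hm)⟩
      rw [e]
      exact (hV _).inter (isClopen_biInter_finset fun j _ => (hV _).compl)
    obtain ⟨⟨a, ⟨_, k, rfl⟩⟩, hk⟩ := IsLocalization.surj (Submonoid.powers (h (pc (idx t)))) (z ⟨idx t⟩)
    obtain ⟨b, hb⟩ : ∃ b : A, ∀ t', idx t' = idx t → ∀ hu,
        IsLocalization.Away.liftAlgHom (A := A) (h (pc (idx t))) (f := Algebra.ofId A (Q g t')) hu (z ⟨idx t⟩) =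
          Ideal.Quotient.mk _ b := by
      refine ⟨a, fun t' ht' hu => ?_⟩
      have h2 := congrArg (IsLocalization.Away.liftAlgHom (A := A) (h (pc (idx t))) (f := Algebra.ofId A (Q g t')) hu) hk
      rw [map_mul, AlgHom.commutes, AlgHom.commutes, map_pow] at h2
      have h1 : algebraMap A (Q g t') (h (pc (idx t))) = 1 := hone _ t' (ht' ▸ hidx t')
      rwa [h1, one_pow, mul_one] at h2
    refine ⟨{t' | idx t' = idx t}, hopen _, rfl, b, fun t' (ht' : idx t' = idx t) => ?_⟩
    have hkey : ∀ i (hu : IsUnit (algebraMap A (Q g t') (h (pc i)))), i = idx t →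
        IsLocalization.Away.liftAlgHom (A := A) (h (pc i)) (f := Algebra.ofId A (Q g t')) hu (z ⟨i⟩) = Ideal.Quotient.mk _ b := by
      rintro i hu rfl
      exact hb t' ht' hu
    exact hkey (idx t') (hq _ t' (hidx t')).1 ht'
  refine ⟨ULift.{u} (Fin F.card), inferInstance, fun i => h (pc i.down),
    AlgHom.pi fun i => ψ (pc i.down), β0.codRestrict (realize g) hmem, AlgHom.ext fun x => ext_ev g fun t' => ?_⟩
  exact AlgHom.congr_fun (hq _ t' (hidx t')).2 x

theorem isIndZariski : EtPBC.IsIndZariski A (realize g) :=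
  IndZarLib.isIndZariski_of_factor fun P _ _ _ φ =>
    have ⟨_, _, h, α, β, hab⟩ := exists_pi_factor g P φ
    ⟨∀ i, Localization.Away (h i), inferInstance, inferInstance, Algebra.IsLocalIso.pi_of_finite A _, α, β, hab⟩

end

end Groth.Agent.ProfLib
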